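import Cfsg.Agent.H25.SUThree.SingerKill

/-! The exceptional numerical solution at `q = 8` does not occur. -/

set_option autoImplicit false

namespace Cfsg.Agent.H25.SUThree

open Subgroup

variable {G : Type*} [Group G] [Finite G]

/-- No overgroup of order 16416 of a torus normaliser of order 171. -/
theorem false_eight {T T₀ H M Z : Subgroup G} (hT₀ : T₀ ≤ T) (hTH : T ≤ H) (hHM : H ≤ M) (hZT : Z ≤ T)
    (hcT : Nat.card T = 57) (hcT₀ : Nat.card T₀ = 19) (hcH : Nat.card H = 171)
    (hcM : Nat.card M = 16416) (hcZ : Nat.card Z = 3) (hZ : Z ≤ center G)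
    (hnorm : H ≤ normalizer (T : Set G))
    (hfix : ∀ x ∈ T₀, x ≠ 1 → ∀ g : G, g⁻¹ * x * g ∈ T → g ∈ H)
    (hC : ∀ x ∈ T₀, x ≠ 1 → ∀ g : G, g * x = x * g → g ∈ T) : False := by
  classical
  haveI : Fact (Nat.Prime 19) := ⟨by norm_num⟩
  obtain ⟨⟨x, hx⟩, hox⟩ := exists_prime_orderOf_dvd_card' (G := T₀) 19 (by rw [hcT₀])
  rw [Subgroup.orderOf_mk] at hox
  have hx1 : x ≠ 1 := fun e => by rw [e, orderOf_one] at hox; omega
  have hTM : T ≤ M := hTH.trans hHM
  set Zm := Z.subgroupOf M with hZm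
  haveI : Zm.Normal := ⟨fun n hn g => by
    have h : g * n * g⁻¹ = n := by
      have hc : (g : G) * n = n * g := mem_center_iff.1 (hZ hn) g
      refine Subtype.ext ?_
      show (g : G) * n * (g : G)⁻¹ = n
      rw [hc, mul_inv_cancel_right]
    rw [h]; exact hn⟩
  let f := QuotientGroup.mk' Zm
  have hker : f.ker = Zm := QuotientGroup.ker_mk' Zm
  set xm : M := ⟨x, hTM (hT₀ hx)⟩ with hxm
  set y := f xm with hy
  have hox' : orderOf xm = 19 := by rw [hxm, Subgroup.orderOf_mk]; exact hox
  have hdisj : ∀ z ∈ Z, z ^ 19 = 1 → z = 1 := fun z hz h19 => by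
    refine orderOf_eq_one_iff.1 (Nat.eq_one_of_dvd_coprimes (by norm_num : Nat.Coprime 19 3)
      (orderOf_dvd_of_pow_eq_one h19) ?_)
    exact hcZ ▸ Subgroup.orderOf_dvd_natCard _ hz
  have hoy : orderOf y = 19 := by
    refine orderOf_eq_prime ?_ fun h => ?_
    · rw [hy, ← map_pow, ← hox', pow_orderOf_eq_one, map_one]
    · have hmem : xm ∈ Zm := hker ▸ (MonoidHom.mem_ker.2 h)
      exact hx1 (hdisj x hmem (hox ▸ pow_orderOf_eq_one x))
  have hZc : Nat.card Zm = 3 := by
    rw [hZm, Nat.card_congr (subgroupOfEquivOfLe (hZT.trans hTM)).toEquiv, hcZ]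
  have hX : Nat.card (M ⧸ Zm) = 5472 := by
    have h := Subgroup.card_mul_index Zm
    rw [hZc, hcM] at h
    show Zm.index = 5472
    omega
  -- the preimage of the line of `y`
  set Tm := T.subgroupOf M with hTm
  have hTmc : Nat.card Tm = 57 := by rw [hTm, Nat.card_congr (subgroupOfEquivOfLe hTM).toEquiv, hcT]
  have hsup : zpowers xm ⊔ Zm = Tm := by
    have hle : zpowers xm ⊔ Zm ≤ Tm :=
      sup_le (zpowers_le.2 (hT₀ hx : (xm : G) ∈ T)) fun z hz => hZT hz
    refine Subgroup.eq_of_le_of_card_ge hle ?_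
    rw [hTmc]
    refine Nat.le_of_dvd Nat.card_pos ?_
    refine Nat.Coprime.mul_dvd_of_dvd_of_dvd (show Nat.Coprime 19 3 by norm_num) ?_ ?_
    · exact hox' ▸ Subgroup.orderOf_dvd_natCard _ (le_sup_left (a := zpowers xm) (mem_zpowers xm))
    · exact hZc ▸ card_dvd_of_le le_sup_right
  have hmap : Tm.map f = zpowers y := by
    rw [← hsup, Subgroup.map_sup, MonoidHom.map_zpowers, (Subgroup.map_eq_bot_iff Zm).2 hker.ge, sup_bot_eq]
  have hcomap : (zpowers y).comap f = Tm := by
    rw [← hmap, Subgroup.comap_map_eq, hker, sup_eq_left]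
    exact fun z hz => hZT hz
  have hCy : ∀ g, Commute g y → g ∈ zpowers y := by
    intro g hg
    induction g using QuotientGroup.induction_on with
    | _ g =>
      have h1 : f (xm⁻¹ * (g⁻¹ * xm * g)) = 1 := by
        rw [map_mul, map_mul, map_mul, map_inv, map_inv]
        show y⁻¹ * ((f g)⁻¹ * y * f g) = 1
        rw [mul_assoc, show y * f g = f g * y from hg.eq.symm, inv_mul_cancel_left, inv_mul_cancel]
      have hz : xm⁻¹ * (g⁻¹ * xm * g) ∈ Zm := hker ▸ (MonoidHom.mem_ker.2 h1)
      set z : G := (x⁻¹ * ((g : G)⁻¹ * x * g)) with hzdef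
      have hzZ : z ∈ Z := hz
      have hcz : Commute x z := mem_center_iff.1 (hZ hzZ) x
      have hp : (x * z) ^ 19 = 1 := by
        rw [hzdef, mul_inv_cancel_left]
        have h := conj_pow (a := (g : G)⁻¹) (b := x) (i := 19)
        rw [inv_inv] at h
        rw [h, ← hox, pow_orderOf_eq_one]
        simp
      rw [hcz.mul_pow, ← hox, pow_orderOf_eq_one, one_mul, hox] at hp
      have hz1 := hdisj z hzZ hp
      have hgT : (g : G) ∈ T := by
        refine hC x hx hx1 g ?_
        rw [hzdef, inv_mul_eq_one] at hz1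
        calc (g : G) * x = g * ((g : G)⁻¹ * x * g) := by rw [← hz1]
          _ = x * g := by group
      exact hmap ▸ ⟨g, hgT, rfl⟩
  set Hm := H.subgroupOf M with hHm
  have hN : normalizer (zpowers y : Set (M ⧸ Zm)) = Hm.map f := by
    refine le_antisymm ?_ ?_
    · intro g hg
      induction g using QuotientGroup.induction_on with
      | _ g =>
        refine ⟨g, ?_, rfl⟩
        have h1 : f (g * xm * g⁻¹) ∈ zpowers y := by
          rw [map_mul, map_mul, map_inv]
          exact (mem_normalizer_iff.1 hg y).1 (mem_zpowers y)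
        have h2 : (g : G) * x * (g : G)⁻¹ ∈ T := show (g * xm * g⁻¹) ∈ Tm from hcomap ▸ h1
        have h3 := hfix x hx hx1 (g : G)⁻¹ (by rwa [inv_inv])
        exact (inv_mem_iff (x := (g : G))).1 h3
    · rw [← hmap]
      refine le_trans (Subgroup.map_mono ?_) (le_normalizer_map f)
      intro h hh
      rw [mem_normalizer_iff]
      exact fun n => mem_normalizer_iff.1 (hnorm hh) n
  have hHc : Nat.card (Hm.map f) = 57 := by
    have hrange : (f.comp Hm.subtype).range = Hm.map f := by
      rw [MonoidHom.range_comp, range_subtype]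
    have hk : (f.comp Hm.subtype).ker = Zm.subgroupOf Hm := by
      ext h
      rw [MonoidHom.mem_ker, mem_subgroupOf]
      exact QuotientGroup.eq_one_iff (h : M)
    have h := Subgroup.card_mul_index (f.comp Hm.subtype).ker
    rw [Subgroup.index_ker, hrange, hk,
      Nat.card_congr (subgroupOfEquivOfLe (fun z hz => hTH (hZT hz) : Zm ≤ Hm)).toEquiv, hZc,
      hHm, Nat.card_congr (subgroupOfEquivOfLe hHM).toEquiv, hcH] at h
    rw [← hHm] at h
    omega
  exact false_big hoy hCy hX (by rw [hN, hHc])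

end Cfsg.Agent.H25.SUThree
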