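import Cfsg.Agent.H25.SUThree.Arith
import Cfsg.Agent.H25.SUThree.Count
import Cfsg.Agent.H25.SUThree.Eight
import Cfsg.Agent.H25.SUThree.Field
import Cfsg.Agent.H2.MinU.S3.Final
import Cfsg.Agent.H72.UnitaryTriple

/-! The normaliser of an adjoint-closed cubic field is maximal in `SU₃(q)` for `q ≠ 3, 5`. -/

set_option autoImplicit false

open scoped MatrixGroups Matrix

namespace Cfsg.Agent.H25.SUThree

open Cfsg.Geo

variable {F : Type*} [Field F] [Fintype F] {q : ℕ}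

/-- Arithmetic of the torus order. -/
theorem torus_arith (hq : 4 ≤ q) :
    ∃ s t d : ℕ, s + q = q * q + 1 ∧ ((q % 3 ≠ 2 ∧ t = s) ∨ (q % 3 = 2 ∧ 3 * t = s)) ∧ 1 < t ∧ s = t * d ∧
      (d = 1 ∨ d = 3) ∧ Nat.Coprime t 3 := by
  have hqq : 4 * q ≤ q * q := Nat.mul_le_mul_right q hq
  obtain ⟨s, hs⟩ : ∃ s, s + q = q * q + 1 := ⟨q * q + 1 - q, by omega⟩
  obtain ⟨t, d, hd, hts, hcase, h3⟩ : ∃ t d : ℕ, (d = 1 ∨ d = 3) ∧ s = t * d ∧
      ((q % 3 ≠ 2 ∧ t = s) ∨ (q % 3 = 2 ∧ 3 * t = s)) ∧ ¬ 3 ∣ t := by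
    by_cases h : q % 3 = 2
    · obtain ⟨j, rfl⟩ : ∃ j, q = 3 * j + 2 := ⟨q / 3, by omega⟩
      have e : s = (3 * (j * j) + 3 * j + 1) * 3 := by nlinarith
      exact ⟨_, 3, Or.inr rfl, e, Or.inr ⟨h, by omega⟩, by omega⟩
    · obtain ⟨j, r, hr, rfl⟩ : ∃ j r, (r = 0 ∨ r = 1) ∧ q = 3 * j + r := ⟨q / 3, q % 3, by omega, by omega⟩
      obtain ⟨v, hv⟩ : ∃ v, v = j * j := ⟨_, rfl⟩
      refine ⟨s, 1, Or.inl rfl, (mul_one s).symm, Or.inl ⟨h, rfl⟩, ?_⟩
      rcases hr with rfl | rfl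
      · have : s + 3 * j = 9 * v + 1 := by rw [hv]; nlinarith
        omega
      · have : s + 3 * j + 1 = 9 * v + 6 * j + 2 := by rw [hv]; nlinarith
        omega
  exact ⟨s, t, d, hs, hcase, by rcases hd with rfl | rfl <;> omega, hts, hd,
    (Nat.prime_three.coprime_iff_not_dvd.2 h3).symm⟩

/-- The primes of the reduced torus order. -/
theorem torus_prime {s t d r : ℕ} (hq : 4 ≤ q) (hs : s + q = q * q + 1) (hts : s = t * d) (hd : d = 1 ∨ d = 3)
    (ht3 : Nat.Coprime t 3) (hr : r.Prime) (hrt : r ∣ t) :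
    ¬ r ∣ q ∧ ¬ r ∣ q - 1 ∧ ¬ r ∣ q + 1 ∧ ¬ r ∣ d := by
  have h3 : r ≠ 3 := fun e => by
    have := Nat.eq_one_of_dvd_coprimes ht3 hrt (e ▸ dvd_rfl)
    exact hr.ne_one this
  have hrs : (r : ℤ) ∣ s := Int.natCast_dvd_natCast.2 (hts ▸ hrt.mul_right d)
  have es : (s : ℤ) = q * q - q + 1 := by omega
  rw [es] at hrs
  have h1 : ¬ (r : ℤ) ∣ 1 := fun h => hr.not_dvd_one (by exact_mod_cast h)
  refine ⟨fun h => h1 ?_, fun h => h1 ?_, fun h => h3 ?_, fun h => ?_⟩
  · have h' : (r : ℤ) ∣ q := Int.natCast_dvd_natCast.2 h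
    exact (dvd_add_right (dvd_sub (h'.mul_right _) h')).1 hrs
  · have h' : (r : ℤ) ∣ (q : ℤ) - 1 := by
      have := Int.natCast_dvd_natCast.2 h
      rwa [Nat.cast_sub (by omega), Nat.cast_one] at this
    have h2 := h'.mul_left (q : ℤ)
    rw [mul_sub, mul_one] at h2
    exact (dvd_add_right h2).1 hrs
  · have h' : (r : ℤ) ∣ (q : ℤ) + 1 := by exact_mod_cast h
    rw [show (q : ℤ) * q - q + 1 = (q + 1) * (q - 2) + 3 by ring] at hrs
    have h2 : (r : ℤ) ∣ 3 := (dvd_add_right (h'.mul_right _)).1 hrs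
    exact (Nat.prime_dvd_prime_iff_eq hr Nat.prime_three).1 (by exact_mod_cast h2)
  · rcases hd with rfl | rfl
    · exact hr.not_dvd_one h
    · exact h3 ((Nat.prime_dvd_prime_iff_eq hr Nat.prime_three).1 h)

/-- The scalars of order three. -/
theorem exists_central {F : Type*} [Field F] [Fintype F] (hF : Fintype.card F = 8 ^ 2)
    (K : Subalgebra F (Matrix (Fin 3) (Fin 3) F)) :
    ∃ Z : Subgroup (SU 3 F 8), Z ≤ torus 8 K ∧ Nat.card Z = 3 ∧ Z ≤ Subgroup.center (SU 3 F 8) := by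
  classical
  haveI : Fact (Nat.Prime 3) := ⟨Nat.prime_three⟩
  obtain ⟨w, hw⟩ := exists_prime_orderOf_dvd_card' (G := Fˣ) 3 (by
    rw [Nat.card_units, Nat.card_eq_fintype_card, hF]; norm_num)
  let g : GL (Fin 3) F := Units.map (Matrix.scalar (Fin 3) : F →+* Matrix (Fin 3) (Fin 3) F).toMonoidHom w
  have hgv : (g : Matrix (Fin 3) (Fin 3) F) = (w : F) • 1 := by
    show Matrix.scalar (Fin 3) (w : F) = _
    rw [Matrix.smul_one_eq_diagonal]; rfl
  have hw3 : (w : F) ^ 3 = 1 := by rw [← Units.val_pow_eq_pow_val, ← hw, pow_orderOf_eq_one, Units.val_one]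
  have hg : g ∈ H99.Asch.suGL 3 F 8 := by
    refine ⟨fun u v => ?_, H99.Asch.mem_specialLinear_iff.2 (by
      rw [hgv, Matrix.det_smul, Matrix.det_one, mul_one, Fintype.card_fin, hw3])⟩
    show hermForm 3 F 8 ((g : Matrix (Fin 3) (Fin 3) F) *ᵥ u) ((g : Matrix (Fin 3) (Fin 3) F) *ᵥ v) = _
    rw [hgv, Matrix.smul_mulVec, Matrix.smul_mulVec, Matrix.one_mulVec, Matrix.one_mulVec,
      H3.hermForm_smul_left hF, H3.hermForm_smul_right hF, ← mul_assoc, ← pow_succ',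
      show (8 : ℕ) + 1 = 3 * 3 from rfl, pow_mul, hw3, one_pow, one_mul]
  rw [← emb_range] at hg
  obtain ⟨z, hz⟩ := hg
  have hoz : orderOf z = 3 := by
    have e : orderOf g = 3 := by
      rw [orderOf_injective _ (Units.map_injective ?_) w, hw]
      exact fun a b h => by simpa using congrFun (congrFun h 0) 0
    rw [← orderOf_injective _ emb_injective z, hz, e]
  have hzv : (emb F 8 z : Matrix (Fin 3) (Fin 3) F) = (w : F) • 1 := by rw [hz, hgv]
  refine ⟨Subgroup.zpowers z, Subgroup.zpowers_le.2 ?_, by rw [Nat.card_zpowers, hoz], Subgroup.zpowers_le.2 ?_⟩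
  · rw [mem_torus, hzv, ← Algebra.algebraMap_eq_smul_one]
    exact K.algebraMap_mem _
  · refine Subgroup.mem_center_iff.2 fun x => emb_injective (Units.ext ?_)
    rw [map_mul, map_mul, Units.val_mul, Units.val_mul, hzv, mul_smul_comm, smul_mul_assoc, mul_one, one_mul]

/-- The normaliser of a cubic field is maximal. -/
theorem su_three_field_maximal {F : Type*} [Field F] [Fintype F] (q : ℕ) (hF : Fintype.card F = q ^ 2)
    (hq : 3 ≤ q) :
    q ≠ 3 → q ≠ 5 → ∀ K : Subalgebra F (Matrix (Fin 3) (Fin 3) F), Cfsg.Geo.IsFieldSubalgebra 3 K →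
      Cfsg.Geo.IsAdjointClosedFor (Cfsg.hermForm 3 F q) K →
      Cfsg.Geo.IsMaximalIn (Cfsg.GU 3 F q ⊓ Cfsg.Geo.specialLinear (Fin 3) F)
        (Cfsg.Geo.subalgebraNormalizer K ⊓ (Cfsg.GU 3 F q ⊓ Cfsg.Geo.specialLinear (Fin 3) F)) := by
  intro hq3 hq5 K hK hadj
  classical
  have hq4 : 4 ≤ q := by omega
  obtain ⟨p, n, hp, -, hn, hqp⟩ := H3.exists_q_eq_pow hF
  have hne : ∀ a b : ℕ, a.Prime → b.Prime → a ≠ b → a ∣ q → b ∣ q → False := fun a b ha hb hab h1 h2 => by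
    rw [hqp] at h1 h2
    exact hab (((Nat.prime_dvd_prime_iff_eq ha hp).1 (ha.dvd_of_dvd_pow h1)).trans
      ((Nat.prime_dvd_prime_iff_eq hb hp).1 (hb.dvd_of_dvd_pow h2)).symm)
  have h6 : q ≠ 6 := fun h => hne 2 3 (by norm_num) (by norm_num) (by norm_num) (by omega) (by omega)
  have h14 : q ≠ 14 := fun h => hne 2 7 (by norm_num) (by norm_num) (by norm_num) (by omega) (by omega)
  have h35 : q ≠ 35 := fun h => hne 5 7 (by norm_num) (by norm_num) (by norm_num) (by omega) (by omega)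
  obtain ⟨s, t, d, hs, hcase, ht1, hd, hd13, ht3⟩ := torus_arith hq4
  obtain ⟨hcyc, hTc⟩ := torus_cyclic hF hK hadj hs
  set T := torus q K with hTdef
  set H := fieldNormalizer q K with hHdef
  have hTH : T ≤ H := torus_le hK
  obtain ⟨g₀, hg₀⟩ := hcyc.exists_generator
  have ho : orderOf (g₀ : SU 3 F q) = s := by
    rw [← Subgroup.orderOf_mk g₀.1 g₀.2, orderOf_eq_card_of_forall_mem_zpowers hg₀, hTc]
  set T₀ := Subgroup.zpowers ((g₀ : SU 3 F q) ^ d) with hT₀def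
  have hT₀ : T₀ ≤ T := Subgroup.zpowers_le.2 (pow_mem g₀.2 d)
  have ht0 : 0 < t := by omega
  have hd0 : 0 < d := by omega
  have hT₀c : Nat.card T₀ = t := by
    rw [hT₀def, Nat.card_zpowers, orderOf_pow' _ hd0.ne', ho, hd, Nat.gcd_eq_right ⟨t, mul_comm _ _⟩,
      Nat.mul_div_cancel _ hd0]
  have hq2 : 1 ≤ q * q := Nat.one_le_iff_ne_zero.2 (Nat.mul_ne_zero (by omega) (by omega))
  have hG : Nat.card (SU 3 F q) = q ^ 3 * ((q ^ 2 - 1) * (q + 1)) * s := by
    rw [H72.UTriple.card_SU_three hF]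
    have e : q ^ 3 + 1 = (q + 1) * s := by
      zify
      have e' : (s : ℤ) = q * q + 1 - q := by omega
      rw [e']; ring
    rw [e]; ring
  have hall : Nat.Coprime (Nat.card T₀) T₀.index := by
    have h1 := Subgroup.card_mul_index T₀
    rw [hT₀c, hG] at h1
    rw [hT₀c]
    have e : T₀.index = q ^ 3 * ((q ^ 2 - 1) * (q + 1)) * d :=
      Nat.eq_of_mul_eq_mul_left ht0 (by rw [h1, hd]; ring)
    refine Nat.coprime_of_dvd fun r hr hrt hri => ?_
    obtain ⟨c1, c2, c3, c4⟩ := torus_prime hq4 hs hd hd13 ht3 hr hrt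
    rw [e, show q ^ 2 - 1 = (q + 1) * (q - 1) from by simpa using Nat.sq_sub_sq q 1] at hri
    simp only [hr.dvd_mul] at hri
    rcases hri with (h | (h | h) | h) | h
    exacts [c1 (hr.dvd_of_dvd_pow h), c3 h, c2 h, c3 h, c4 h]
  have hns : ∀ x ∈ T₀, x ≠ 1 → ∀ c : F, (emb F q x : Matrix (Fin 3) (Fin 3) F) ≠ c • 1 := by
    intro x hx hx1 c hc
    refine hx1 (orderOf_eq_one_iff.1 (Nat.eq_one_of_dvd_coprimes ht3
      (hT₀c ▸ Subgroup.orderOf_dvd_natCard _ hx) (orderOf_dvd_of_pow_eq_one (emb_injective (Units.ext ?_)))))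
    have hmem : emb F q x ∈ H99.Asch.suGL 3 F q := emb_range (F := F) (q := q) ▸ ⟨x, rfl⟩
    have hdet := H99.Asch.mem_specialLinear_iff.1 hmem.2
    rw [hc, Matrix.det_smul, Matrix.det_one, mul_one, Fintype.card_fin] at hdet
    rw [map_pow, map_one, Units.val_pow_eq_pow_val, hc, smul_pow, one_pow, hdet, one_smul, Units.val_one]
  have hfix : ∀ x ∈ T₀, x ≠ 1 → ∀ g : SU 3 F q, g⁻¹ * x * g ∈ T → g ∈ H := by
    intro x hx hx1 g hg
    refine mem_normalizer_of_conj hK (hT₀ hx) (hns x hx hx1) (emb F q g) ?_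
    have h := mem_torus.1 hg
    rwa [map_mul, map_mul, map_inv, Units.val_mul, Units.val_mul] at h
  have hperf : commutator (SU 3 F q) = ⊤ := H3.commutator_SU_eq_top hF le_rfl (by omega)
  have hHc : Nat.card H = 3 * s := by
    rcases card_normalizer hK (q := q) with h | h
    · exact absurd (Subgroup.eq_of_le_of_card_ge hTH h.le).symm
        (normalizer_ne_torus hperf hT₀ hall (hT₀c.symm ▸ ht1) (torus_comm hK) hfix)
    · rw [h, hTc]
  have hmap : H.map (emb F q) =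
      subalgebraNormalizer K ⊓ (GU 3 F q ⊓ specialLinear (Fin 3) F) := by
    rw [hHdef, fieldNormalizer, Subgroup.map_comap_eq, emb_range, inf_comm]
  refine ⟨lt_of_le_not_ge inf_le_right fun h =>
    H99.Asch.su_not_le_field hF le_rfl Nat.prime_three hK (h.trans inf_le_left), fun M hHM hMK => ?_⟩
  have hM : (M.comap (emb F q)).map (emb F q) = M :=
    Subgroup.map_comap_eq_self (le_of_le_of_eq hMK (emb_range (F := F) (q := q)).symm)
  have hHM' : H ≤ M.comap (emb F q) := by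
    rw [← Subgroup.map_le_iff_le_comap, hmap]; exact hHM
  set M' := M.comap (emb F q) with hM'
  rcases eq_or_ne M' ⊤ with htop | htop
  · right
    rw [← hM, htop, ← MonoidHom.range_eq_map, emb_range]
  left
  suffices hMH : M' = H by rw [← hM, hMH, hmap]
  obtain ⟨a, b, ha, hb⟩ := exists_two_congruences hT₀ hTH hHM' hall hfix
  rw [hT₀c] at ha hb
  rcases Nat.eq_zero_or_pos a with rfl | ha1
  · rw [zero_mul, add_zero, Subgroup.relIndex_eq_one] at ha
    exact le_antisymm ha hHM'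
  exfalso
  have hbound : q ^ 3 + 1 ≤ M'.index := H2.MinU.S3.su_three_bound hF hq hq5 M' htop
  have hbt : q ^ 3 ≤ b * t := by omega
  have hs0 : 0 < s := by rw [hd]; positivity
  have heq : 3 * ((1 + a * t) * (1 + b * t)) = q ^ 3 * (q * q - 1) * (q + 1) := by
    have h1 := Subgroup.card_mul_index H
    rw [← Subgroup.relIndex_mul_index hHM', ha, hb, hHc, hG] at h1
    refine Nat.eq_of_mul_eq_mul_right hs0 ?_
    rw [sq] at h1
    linarith [h1, Nat.mul_assoc (q ^ 3) (q * q - 1) (q + 1)]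
  rcases hcase with ⟨h3, rfl⟩ | ⟨h3, h3t⟩
  · exact arith_one hq4 h3 h6 hs ha1 hbt heq
  obtain ⟨rfl, rfl⟩ := arith_three hq4 h3 hq5 h14 h35 hs h3t ha1 hbt heq
  have hs57 : s = 57 := by omega
  have ht19 : t = 19 := by omega
  have hMc : Nat.card M' = 16416 := by
    have h1 := Subgroup.card_mul_index (H.subgroupOf M')
    rw [Nat.card_congr (Subgroup.subgroupOfEquivOfLe hHM').toEquiv, hHc, hs57,
      show (H.subgroupOf M').index = H.relIndex M' from rfl, ha, ht19] at h1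
    omega
  obtain ⟨Z, hZT, hZc, hZ⟩ := exists_central hF K
  refine false_eight hT₀ hTH hHM' hZT (by rw [hTc, hs57]) (by rw [hT₀c, ht19]) (by rw [hHc, hs57]) hMc hZc
    hZ ?_ hfix (fun x hx hx1 g hg => mem_torus_of_commute hK (hT₀ hx) (hns x hx hx1) hg)
  intro h hh
  rw [Subgroup.mem_normalizer_iff]
  intro x
  show _ ∈ K ↔ _ ∈ K
  rw [map_mul, map_mul, map_inv, Units.val_mul, Units.val_mul]
  exact hh _

end Cfsg.Agent.H25.SUThree
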