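import Mathlib
import Cfsg.Agent.H28.SmallOrders.Mid.Main

/-! No group of order 1824 or 5472 has a self-centralising element of order 19. -/

set_option autoImplicit false

namespace Cfsg.Agent.H25.SUThree

open Subgroup MulAction

variable {Y : Type*} [Group Y] [Finite Y] {y : Y}

/-- A subgroup of small prime power order normalised by a self-centralising element of order 19 is trivial. -/
theorem eq_bot_of_normalised (hy : orderOf y = 19) (hC : ∀ g, Commute g y → g ∈ zpowers y)
    (P : Subgroup Y) (hP : y ∈ normalizer (P : Set Y)) (hc : Nat.card P ∣ 32 ∨ Nat.card P ∣ 9) : P = ⊥ := by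
  classical
  haveI : Fact (Nat.Prime 19) := ⟨by norm_num⟩
  haveI : Fintype P := Fintype.ofFinite P
  let f : Function.End P := fun p => ⟨y * p.1 * y⁻¹, (mem_normalizer_iff.1 hP p.1).1 p.2⟩
  have hfk : ∀ (k : ℕ) (p : P), ((f ^ k) p).1 = y ^ k * p.1 * (y ^ k)⁻¹ := by
    intro k
    induction k with
    | zero => intro p; simp; rfl
    | succ k ih =>
      intro p
      rw [pow_succ' f]
      show y * ((f ^ k) p).1 * y⁻¹ = _
      rw [ih, pow_succ' y, mul_inv_rev]
      simp only [mul_assoc]
  have hf : f ^ 19 ^ 1 = 1 := funext fun p => Subtype.ext (by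
    rw [pow_one, hfk, ← hy, pow_orderOf_eq_one]; simp; rfl)
  have h19 : ¬ 19 ∣ Nat.card P := fun h => by
    rcases hc with hc | hc <;> exact absurd (h.trans hc) (by norm_num)
  have hone : Fintype.card (Function.fixedPoints (f : P → P)) = 1 := by
    refine Fintype.card_eq_one_iff.2 ⟨⟨1, Subtype.ext (by show y * 1 * y⁻¹ = 1; simp)⟩, fun z => ?_⟩
    have hz : y * z.1.1 * y⁻¹ = z.1.1 := congrArg Subtype.val z.2
    have hcm : Commute z.1.1 y := (mul_inv_eq_iff_eq_mul.1 hz).symm
    have hmem := hC _ hcm
    refine Subtype.ext (Subtype.ext ?_)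
    show z.1.1 = 1
    by_contra h0
    refine h19 ?_
    have hd : orderOf z.1.1 ∣ 19 := by
      have h := orderOf_dvd_natCard (⟨z.1.1, hmem⟩ : zpowers y)
      rwa [Nat.card_zpowers, hy, Subgroup.orderOf_mk] at h
    have ho : orderOf z.1.1 = 19 :=
      ((Nat.dvd_prime (by norm_num)).1 hd).resolve_left (by rwa [orderOf_eq_one_iff])
    exact ho ▸ Subgroup.orderOf_dvd_natCard _ z.1.2
  have hmod := Equiv.Perm.card_fixedPoints_modEq (f := f) (p := 19) (n := 1) hf
  rw [hone, ← Nat.card_eq_fintype_card] at hmod
  refine eq_bot_of_card_eq P ?_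
  rcases hc with hc | hc
  · have : Nat.card P ∈ Nat.divisors 32 := Nat.mem_divisors.2 ⟨hc, by norm_num⟩
    have hall : ∀ m ∈ Nat.divisors 32, m % 19 = 1 → m = 1 := by decide
    exact hall _ this hmod
  · have : Nat.card P ∈ Nat.divisors 9 := Nat.mem_divisors.2 ⟨hc, by norm_num⟩
    have hall : ∀ m ∈ Nat.divisors 9, m % 19 = 1 → m = 1 := by decide
    exact hall _ this hmod

/-- A normal subgroup avoiding the element is trivial. -/
theorem normal_eq_bot_or_mem (hy : orderOf y = 19) (hC : ∀ g, Commute g y → g ∈ zpowers y)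
    (hY : Nat.card Y = 1824 ∨ Nat.card Y = 5472) (L : Subgroup Y) [L.Normal] : L = ⊥ ∨ y ∈ L := by
  classical
  haveI : Fact (Nat.Prime 19) := ⟨by norm_num⟩
  have hd : Nat.card L ∣ 5472 := L.card_subgroup_dvd_card.trans (by rcases hY with h | h <;> simp [h])
  by_cases h19 : 19 ∣ Nat.card L
  · right
    obtain ⟨⟨z, hzL⟩, hz⟩ := exists_prime_orderOf_dvd_card' (G := L) 19 h19
    rw [Subgroup.orderOf_mk] at hz
    have hsyl : ∀ w : Y, orderOf w = 19 → ∃ S : Sylow 19 Y, (S : Subgroup Y) = zpowers w := fun w hw =>
      ⟨Sylow.ofCard (zpowers w) (by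
        rw [Nat.card_zpowers, hw]
        rcases hY with h | h <;> rw [h]
        · rw [show (1824 : ℕ) = 19 * 96 by norm_num, Nat.factorization_mul (by norm_num) (by norm_num),
            Finsupp.add_apply, Nat.Prime.factorization_self (by norm_num),
            Nat.factorization_eq_zero_of_not_dvd (by norm_num)]
          norm_num
        · rw [show (5472 : ℕ) = 19 * 288 by norm_num, Nat.factorization_mul (by norm_num) (by norm_num),
            Finsupp.add_apply, Nat.Prime.factorization_self (by norm_num),
            Nat.factorization_eq_zero_of_not_dvd (by norm_num)]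
          norm_num), rfl⟩
    obtain ⟨S, hS⟩ := hsyl z hz
    obtain ⟨T, hT⟩ := hsyl y hy
    obtain ⟨g, hg⟩ := MulAction.exists_smul_eq Y S T
    have hyT : y ∈ ((g • S : Sylow 19 Y) : Subgroup Y) := by rw [hg, hT]; exact mem_zpowers y
    rw [Sylow.coe_subgroup_smul, hS, Subgroup.mem_smul_pointwise_iff_exists] at hyT
    obtain ⟨w, hw, rfl⟩ := hyT
    obtain ⟨k, rfl⟩ := mem_zpowers_iff.1 hw
    show g * z ^ k * g⁻¹ ∈ L
    exact Normal.conj_mem ‹_› _ (zpow_mem hzL k) g
  · left
    have key : ∀ s : ℕ, s.Prime → ¬ s ∣ Nat.card L ∨ False := by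
      intro s hs
      left
      intro hsd
      haveI := Fact.mk hs
      -- a Sylow subgroup of `L` normalised by `y`
      have h19s : ¬ 19 ∣ Nat.card (Sylow s L) := fun h =>
        h19 (h.trans ((Sylow.card_eq_index_normalizer (default : Sylow s L)) ▸ Subgroup.index_dvd_card _))
      haveI : Fintype (Sylow s L) := Fintype.ofFinite _
      let φ : Function.End (Sylow s L) := fun S => MulAut.conjNormal (H := L) y • S
      have hφk : ∀ (k : ℕ) (S : Sylow s L), (φ ^ k) S = MulAut.conjNormal (H := L) (y ^ k) • S := by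
        intro k
        induction k with
        | zero => intro S; simp; rfl
        | succ k ih =>
          intro S
          rw [pow_succ' φ]
          show MulAut.conjNormal (H := L) y • ((φ ^ k) S) = _
          rw [ih, smul_smul, ← map_mul, pow_succ' y]
      have hφ : φ ^ 19 ^ 1 = 1 := funext fun S => by
        rw [pow_one, hφk, ← hy, pow_orderOf_eq_one, map_one, one_smul]; rfl
      have hmod := Equiv.Perm.card_fixedPoints_modEq (f := φ) (p := 19) (n := 1) hφ
      have hne : Fintype.card (Function.fixedPoints (φ : Sylow s L → Sylow s L)) ≠ 0 := fun h0 => by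
        rw [h0, Nat.modEq_zero_iff_dvd, ← Nat.card_eq_fintype_card] at hmod
        exact h19s hmod
      obtain ⟨⟨S, hS⟩⟩ := Fintype.card_pos_iff.1 (Nat.pos_of_ne_zero hne)
      have hS' : MulAut.conjNormal (H := L) y • S = S := hS
      set P := (S : Subgroup L).map L.subtype with hPdef
      have hPc : Nat.card P = Nat.card S := Subgroup.card_map_of_injective L.subtype_injective
      have hpos : 1 < Nat.card S := by
        have := S.dvd_card_of_dvd_card hsd
        exact lt_of_lt_of_le hs.one_lt (Nat.le_of_dvd Nat.card_pos this)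
      obtain ⟨k, hk⟩ := IsPGroup.iff_card.1 S.isPGroup'
      have hSd : Nat.card S ∣ 5472 := ((S : Subgroup L).card_subgroup_dvd_card).trans hd
      have hc : Nat.card P ∣ 32 ∨ Nat.card P ∣ 9 := by
        rw [hPc, hk]
        rw [hk] at hSd hpos
        have hs' : s = 2 ∨ s = 3 := by
          have h1 : s ∣ 5472 := hsd.trans hd
          have h2 : s ≠ 19 := fun e => h19 (e ▸ hsd)
          have h4 : s ∣ 2 ^ 5 * (3 ^ 2 * 19) := by norm_num; exact h1
          rcases (Nat.Prime.dvd_mul hs).1 h4 with h5 | h5
          · exact Or.inl ((Nat.prime_dvd_prime_iff_eq hs Nat.prime_two).1 (hs.dvd_of_dvd_pow h5))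
          rcases (Nat.Prime.dvd_mul hs).1 h5 with h6 | h6
          · exact Or.inr ((Nat.prime_dvd_prime_iff_eq hs Nat.prime_three).1 (hs.dvd_of_dvd_pow h6))
          · exact absurd ((Nat.prime_dvd_prime_iff_eq hs (by norm_num)).1 h6) h2
        rcases hs' with rfl | rfl
        · left; exact (Nat.Coprime.pow_left k (by norm_num : Nat.Coprime 2 171)).dvd_of_dvd_mul_right
            (show 2 ^ k ∣ 32 * 171 from hSd)
        · right; exact (Nat.Coprime.pow_left k (by norm_num : Nat.Coprime 3 608)).dvd_of_dvd_mul_right
            (show 3 ^ k ∣ 9 * 608 from hSd)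
      have hnorm : y ∈ normalizer (P : Set Y) := by
        rw [mem_normalizer_iff]
        have hmap : ∀ p, p ∈ P → y * p * y⁻¹ ∈ P := by
          rintro _ ⟨w, hw, rfl⟩
          refine ⟨MulAut.conjNormal (H := L) y w, ?_, MulAut.conjNormal_apply y w⟩
          have h2 : MulAut.conjNormal (H := L) y w ∈ ((MulAut.conjNormal (H := L) y • S : Sylow s L) : Subgroup L) :=
            Subgroup.smul_mem_pointwise_smul w (MulAut.conjNormal y) _ hw
          rwa [hS'] at h2
        intro p
        refine ⟨hmap p, fun hp => ?_⟩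
        have hsub : (fun p => y * p * y⁻¹) '' (P : Set Y) = P :=
          Set.eq_of_subset_of_ncard_le (by rintro _ ⟨q, hq, rfl⟩; exact hmap q hq)
            (Set.ncard_image_of_injective _ (fun a b e => by simpa using e)).ge (Set.toFinite _)
        obtain ⟨q, hq, e⟩ := (Set.ext_iff.1 hsub _).2 hp
        rwa [show q = p by simpa using e] at hq
      have := eq_bot_of_normalised hy hC P hnorm hc
      rw [this, Subgroup.card_bot] at hPc
      omega
    refine Subgroup.eq_bot_of_card_eq L ?_
    by_contra h
    obtain ⟨s, hs, hsd⟩ := Nat.exists_prime_and_dvd h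
    exact (key s hs).elim (fun h' => h' hsd) id

/-- The index of a normal subgroup containing the element divides the order of the normaliser. -/
theorem index_dvd (hy : orderOf y = 19) (hY : Nat.card Y = 1824 ∨ Nat.card Y = 5472)
    (L : Subgroup Y) [L.Normal] (hyL : y ∈ L) {m : ℕ} (hN : Nat.card (normalizer (zpowers y : Set Y)) = 19 * m) :
    L.index ∣ m := by
  classical
  haveI : Fact (Nat.Prime 19) := ⟨by norm_num⟩
  have hle : zpowers y ≤ L := zpowers_le.2 hyL
  let S : Sylow 19 L := Sylow.ofCard ((zpowers y).subgroupOf L) (by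
    rw [Nat.card_congr (subgroupOfEquivOfLe hle).toEquiv, Nat.card_zpowers, hy]
    have hd : Nat.card L ∣ 5472 := L.card_subgroup_dvd_card.trans (by rcases hY with h | h <;> simp [h])
    have h19 : 19 ∣ Nat.card L := hy ▸ Subgroup.orderOf_dvd_natCard _ hyL
    have hf : (Nat.card L).factorization 19 = 1 := by
      obtain ⟨e, he⟩ := h19
      have he' : ¬ 19 ∣ e := fun h => by
        obtain ⟨e', rfl⟩ := h
        exact absurd ((Dvd.intro e' (by rw [he, mul_assoc])).trans hd : 19 * 19 ∣ 5472) (by norm_num)
      rw [he, Nat.factorization_mul (by norm_num) (fun h => by subst h; simp at he'), Finsupp.add_apply,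
        Nat.Prime.factorization_self (by norm_num), Nat.factorization_eq_zero_of_not_dvd he']
    rw [hf, pow_one])
  have hmap : (S : Subgroup L).map L.subtype = zpowers y := by
    rw [Sylow.coe_ofCard, subgroupOf_map_subtype, inf_eq_left.2 hle]
  have htop := Sylow.normalizer_sup_eq_top S
  rw [hmap] at htop
  have h1 := Subgroup.card_mul_index L
  set N := normalizer (zpowers y : Set Y) with hNdef
  have h2 : L.index ∣ Nat.card N := by
    rw [← relIndex_top_right, ← htop, Subgroup.relIndex_sup_right]
    exact Subgroup.relIndex_dvd_card L N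
  have h19 : Nat.Coprime L.index 19 := by
    refine (Nat.coprime_comm.1 ((Nat.Prime.coprime_iff_not_dvd (by norm_num)).2 fun h => ?_))
    have hd : Nat.card L * L.index ∣ 5472 := by rw [h1]; rcases hY with h | h <;> simp [h]
    exact absurd ((Nat.mul_dvd_mul (hy ▸ Subgroup.orderOf_dvd_natCard _ hyL : 19 ∣ Nat.card L) h).trans hd)
      (by norm_num)
  exact h19.dvd_of_dvd_mul_left (hN ▸ h2)

/-- The order 1824. -/
theorem false_small (hy : orderOf y = 19) (hC : ∀ g, Commute g y → g ∈ zpowers y)
    (hY : Nat.card Y = 1824) {m : ℕ} (hN : Nat.card (normalizer (zpowers y : Set Y)) = 19 * m)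
    (hm : m = 1) : False := by
  haveI : Nontrivial Y := Finite.one_lt_card_iff_nontrivial.1 (by omega)
  haveI : IsSimpleGroup Y := ⟨fun L hL => by
    rcases normal_eq_bot_or_mem hy hC (Or.inl hY) L with h | h
    · exact Or.inl h
    · exact Or.inr (Subgroup.index_eq_one.1 (Nat.dvd_one.1 (hm ▸ index_dvd hy (Or.inl hY) L h hN)))⟩
  have hna : ¬ IsMulCommutative Y := fun h => by
    have := Subgroup.card_dvd_of_le (show (⊤ : Subgroup Y) ≤ zpowers y from fun g _ =>
      hC g (h.is_comm.comm g y))
    rw [Nat.card_zpowers, hy, Subgroup.card_top, hY] at this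
    norm_num at this
  have := H28.Mid.orders_le hna (by omega)
  rw [hY] at this
  simp at this

/-- The order 5472. -/
theorem false_big (hy : orderOf y = 19) (hC : ∀ g, Commute g y → g ∈ zpowers y)
    (hY : Nat.card Y = 5472) (hN : Nat.card (normalizer (zpowers y : Set Y)) = 19 * 3) : False := by
  classical
  haveI : Fact (Nat.Prime 19) := ⟨by norm_num⟩
  haveI : Nontrivial Y := Finite.one_lt_card_iff_nontrivial.1 (by omega)
  by_cases hex : ∃ L : Subgroup Y, L.Normal ∧ y ∈ L ∧ L.index = 3
  · obtain ⟨L, hLn, hyL, hLi⟩ := hex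
    haveI := hLn
    have hLc : Nat.card L = 1824 := by
      have h := Subgroup.card_mul_index L
      rw [hLi, hY] at h
      omega
    set y' : L := ⟨y, hyL⟩ with hy'
    have hy19 : orderOf y' = 19 := by rw [hy', Subgroup.orderOf_mk]; exact hy
    have hzmap : (zpowers y').map L.subtype = zpowers y := MonoidHom.map_zpowers L.subtype y'
    have hC' : ∀ g, Commute g y' → g ∈ zpowers y' := fun g hg => by
      have h := hC g.1 (congrArg Subtype.val hg)
      rw [← hzmap] at h
      obtain ⟨w, hw, he⟩ := h
      rwa [← L.subtype_injective he]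
    set N' := normalizer (zpowers y' : Set L) with hN'
    have hdvd : Nat.card N' ∣ 57 := by
      have hle : N'.map L.subtype ≤ normalizer (zpowers y : Set Y) := by
        have h := Subgroup.le_normalizer_map (H := zpowers y') L.subtype
        rwa [hzmap] at h
      have hcm : Nat.card (N'.map L.subtype) = Nat.card N' := Subgroup.card_map_of_injective L.subtype_injective
      rw [← hcm]
      refine (Subgroup.card_dvd_of_le hle).trans (dvd_of_eq ?_)
      rw [hN]
    let S : Sylow 19 L := Sylow.ofCard (zpowers y') (by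
      rw [Nat.card_zpowers, hy19, hLc, show (1824 : ℕ) = 19 * 96 by norm_num,
        Nat.factorization_mul (by norm_num) (by norm_num), Finsupp.add_apply,
        Nat.Prime.factorization_self (by norm_num), Nat.factorization_eq_zero_of_not_dvd (by norm_num)]
      norm_num)
    have hmod := card_sylow_modEq_one 19 L
    have hidx : Nat.card (Sylow 19 L) = N'.index := Sylow.card_eq_index_normalizer S
    have h19 : 19 ∣ Nat.card N' :=
      hy19 ▸ Subgroup.orderOf_dvd_natCard _ (le_normalizer (mem_zpowers y'))
    obtain ⟨m, hm⟩ := h19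
    refine false_small hy19 hC' hLc hm ?_
    have hmul := Subgroup.card_mul_index N'
    rw [hLc, hm, ← hidx] at hmul
    rw [hm, show (57 : ℕ) = 19 * 3 by norm_num] at hdvd
    rcases (Nat.dvd_prime Nat.prime_three).1 ((mul_dvd_mul_iff_left (by norm_num)).1 hdvd) with h | h
    · exact h
    · subst h
      have h32 : Nat.card (Sylow 19 L) = 32 := by omega
      rw [h32] at hmod
      exact absurd hmod (by decide)
  · push Not at hex
    haveI : IsSimpleGroup Y := ⟨fun L hL => by
      rcases normal_eq_bot_or_mem hy hC (Or.inr hY) L with h | h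
      · exact Or.inl h
      · refine Or.inr (Subgroup.index_eq_one.1 ?_)
        exact ((Nat.dvd_prime Nat.prime_three).1 (index_dvd hy (Or.inr hY) L h hN)).resolve_right
          (hex L hL h)⟩
    have hna : ¬ IsMulCommutative Y := fun h => by
      have := Subgroup.card_dvd_of_le (show (⊤ : Subgroup Y) ≤ zpowers y from fun g _ =>
        hC g (h.is_comm.comm g y))
      rw [Nat.card_zpowers, hy, Subgroup.card_top, hY] at this
      norm_num at this
    have := H28.Mid.orders_le hna (by omega)
    rw [hY] at this
    simp at this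

end Cfsg.Agent.H25.SUThree
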